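/-
Two-groups with an involution whose centralizer is elementary abelian, acted on by an element of odd order.
-/
import Cfsg.Agent.DD.A
set_option autoImplicit false
set_option linter.unusedSectionVars false

namespace CF.IC
open Subgroup Cfsg CF.BG CF.Sig CF.GW CF.Ab2
open CF.ZD (abel_of_sq trans_of_card_cj ncard_coset ncard_of_trans_cj)
open scoped commutatorElement

variable {G : Type*} [Group G] [Finite G]
variable {A B D K L M N P Q S T U V W X Y : Subgroup G} {a b c d g h k p s t u v w x y z : G}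

/-- `t` inverts `P` -/
def Nv (t : G) (P : Subgroup G) : Prop := ∀ p ∈ P, t * p * (t * p) = 1

theorem inv_of_sq (i : t * t = 1) (e : t * p * (t * p) = 1) : t * p * t⁻¹ = p⁻¹ := by
  rw [← eq_inv_of_mul_eq_one_right i, eq_inv_iff_mul_eq_one, ← e]
  simp only [mul_assoc]

theorem Nv.abel (e : Nv t P) (i : t * t = 1) : Abel P := abel_of_forall fun x hx y hy => by
  have := inv_of_sq i (e _ (mul_mem hx hy))
  rw [show t * (x * y) * t⁻¹ = t * x * t⁻¹ * (t * y * t⁻¹) by group, inv_of_sq i (e x hx), inv_of_sq i (e y hy),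
    ← mul_inv_rev, inv_inj] at this
  exact this.symm

theorem Nv.norm (e : Nv t P) (i : t * t = 1) : t ∈ 𝐍 P :=
  zpowers_le.1 (zpowers_le.2 (mem_norm_of_cj_le fun y hy => by
    obtain ⟨x, hx, rfl⟩ := mem_cj_iff.1 hy
    exact inv_of_sq i (e x hx) ▸ inv_mem hx))

theorem mem_sup_iv (i : t * t = 1) (n : t ∈ 𝐍 P) : x ∈ P ⊔ zpowers t ↔ x ∈ P ∨ t * x ∈ P := by
  rw [CF.Invol.mem_sup_zpowers_iff n (i ▸ one_mem P), mem_norm.1 n (x * t⁻¹), ← eq_inv_of_mul_eq_one_right i,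
    show t * (x * t) * t = t * x * (t * t) by group, i, mul_one]

theorem card_sup_iv (i : Iv t) (n : t ∈ 𝐍 P) (m : t ∉ P) : ♯(P ⊔ zpowers t : Subgroup G) = 2 * ♯P := by
  rw [card_sup_of_inf_bot (.inr (zpowers_le.2 n)), i.card, mul_comm]
  refine eq_bot_of_forall fun x hx => ?_
  rcases i.mem_zpowers.1 hx.2 with e | e
  · exact e
  · exact absurd (e ▸ hx.1) m

theorem conj_sq (e : x * x = 1) (g : G) : g * x * g⁻¹ * (g * x * g⁻¹) = 1 := by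
  rw [show g * x * g⁻¹ * (g * x * g⁻¹) = g * (x * x) * g⁻¹ by group, e, mul_one, mul_inv_cancel]

/-- the subgroup generated by the squares -/
def sqs (P : Subgroup G) : Subgroup G := closure {x | ∃ p ∈ P, p * p = x}

theorem sq_mem_sqs (hp : p ∈ P) : p * p ∈ sqs P := subset_closure ⟨p, hp, rfl⟩
theorem sqs_le : sqs P ≤ P := (closure_le _).2 fun _ ⟨_, hp, e⟩ => e ▸ mul_mem hp hp

theorem mem_sqs (a : Abel P) : x ∈ sqs P ↔ ∃ p ∈ P, p * p = x := by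
  refine ⟨fun hx => ?_, fun ⟨p, hp, e⟩ => e ▸ sq_mem_sqs hp⟩
  induction hx using closure_induction with
  | mem x hx => exact hx
  | one => exact ⟨1, one_mem _, mul_one 1⟩
  | mul x y _ _ hx hy =>
    obtain ⟨p, hp, rfl⟩ := hx
    obtain ⟨q, hq, rfl⟩ := hy
    exact ⟨p * q, mul_mem hp hq, by rw [mul_assoc, ← mul_assoc q, ← a.mul_comm hp hq]; simp only [mul_assoc]⟩
  | inv x _ hx =>
    obtain ⟨p, hp, rfl⟩ := hx
    exact ⟨p⁻¹, inv_mem hp, by rw [mul_inv_rev]⟩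

theorem norm_sqs : 𝐍 P ≤ 𝐍 (sqs P) := fun g hg => mem_norm_of_cj_le (by
  rw [cj, sqs, MonoidHom.map_closure, closure_le]
  rintro _ ⟨_, ⟨p, hp, rfl⟩, rfl⟩
  exact subset_closure ⟨_, conj_mem_of_norm hg hp, by simp [mul_assoc]⟩)

theorem relIndex_sqs (a : Abel P) (e : ∀ p, p ∈ V ↔ p ∈ P ∧ p * p = 1) : (sqs P).relIndex P = ♯V := by
  let f : P →* G := MonoidHom.mk' (fun p => p * p) fun p q => by
    rw [coe_mul, mul_assoc, ← mul_assoc (q : G), ← a.mul_comm p.2 q.2]; simp only [mul_assoc]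
  have h1 : f.range = sqs P := by
    ext x
    rw [mem_sqs a]
    exact ⟨fun ⟨p, h⟩ => ⟨p, p.2, h⟩, fun ⟨p, hp, h⟩ => ⟨⟨p, hp⟩, h⟩⟩
  have h2 : f.ker = V.subgroupOf P := by
    ext p
    rw [mem_subgroupOf, e]
    exact ⟨fun h => ⟨p.2, h⟩, fun h => h.2⟩
  have h3 := f.ker.card_mul_index
  rw [index_ker, h1, h2, card_subgroupOf' fun p hp => ((e p).1 hp).1, ← card_mul_relIndex (sqs_le (P := P)),
    mul_comm] at h3
  exact (Nat.eq_of_mul_eq_mul_left (card_pos' _) h3).symm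

/-- `X` is a `2`-group, `C_X(t) = ⟨t⟩ × V`, and `h` is transitive on the involutions of `V` -/
structure SL (t h : G) (V X : Subgroup G) : Prop where
  k : P2 X
  it : Iv t
  tX : t ∈ X
  VX : V ≤ X
  sq : ∀ v ∈ V, v * v = 1
  tV : t ∉ V
  Vt : V ≤ 𝐂₁ t
  cen : ∀ x ∈ X, x ∈ 𝐂₁ t → x ∈ V ∨ t * x ∈ V
  four : 4 ≤ ♯V
  oh : Eo h
  ht : h ∈ 𝐂₁ t
  hX : h ∈ 𝐍 X
  hV : h ∈ 𝐍 V
  tr : Tr (zpowers h) V

namespace SL
variable (H : SL t h V X)
include H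

theorem mono (l : Y ≤ X) (m : t ∈ Y) (l' : V ≤ Y) (n : h ∈ 𝐍 Y) : SL t h V Y :=
  { H with k := H.k.le l, tX := m, VX := l', cen := fun x hx => H.cen x (l hx), hX := n }

theorem tn : t ∈ 𝐍 V := cent_le_norm V (le_cent1_iff.1 H.Vt)
theorem kt (hk : k ∈ zpowers h) : k * t * k⁻¹ = t := by
  rw [mem_cent1.1 (zpowers_le.2 H.ht hk), mul_inv_cancel_right]
theorem tk (hk : k ∈ zpowers h) (x : G) : k * (t * x) * k⁻¹ = t * (k * x * k⁻¹) := by
  rw [← mul_assoc, mem_cent1.1 (zpowers_le.2 H.ht hk)]; simp only [mul_assoc]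

theorem cen_eq : X ⊓ 𝐂₁ t = V ⊔ zpowers t :=
  le_antisymm (fun x hx => (mem_sup_iv H.it.sq H.tn).2 (H.cen x hx.1 hx.2))
    (sup_le (le_inf H.VX H.Vt) (zpowers_le.2 ⟨H.tX, self_mem_cent1 t⟩))

theorem card_cen : ♯(X ⊓ 𝐂₁ t : Subgroup G) = 2 * ♯V := by rw [H.cen_eq, card_sup_iv H.it H.tn H.tV]

theorem nv : Nv t V := fun v hv => by
  rw [mul_assoc, ← mul_assoc v, mem_cent1.1 (H.Vt hv), mul_assoc, H.sq v hv, mul_one, H.it.sq]

theorem sqA (hx : x ∈ X) (c : x ∈ 𝐂₁ t) : x * x = 1 := by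
  rcases H.cen x hx c with e | e
  · exact H.sq x e
  · have := H.nv _ e
    rwa [← mul_assoc t t x, H.it.sq, one_mul] at this

theorem nsq (hx : x ∈ X) (hy : y ∈ X) : x * x ≠ y * t * y⁻¹ := fun e => by
  have e' : y⁻¹ * x * y * (y⁻¹ * x * y) = t := by
    rw [show y⁻¹ * x * y * (y⁻¹ * x * y) = y⁻¹ * (x * x) * y by group, e]; group
  refine H.it.ne_one (e' ▸ H.sqA (mul_mem (mul_mem (inv_mem hy) hx) hy) ?_)
  rw [mem_cent1, ← e']; simp only [mul_assoc]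

theorem cent_of (hk : k ∈ zpowers h) (hv : v ∈ V) (v1 : v ≠ 1) (c : k ∈ 𝐂₁ v) : k ∈ 𝐂 V :=
  mem_cent.2 fun w hw => by
    by_cases w1 : w = 1
    · simp [w1]
    obtain ⟨j, hj, rfl⟩ := H.tr v hv v1 w hw w1
    have := (abel_zpowers h).mul_comm hj hk
    rw [show j * v * j⁻¹ * k = j * v * (j⁻¹ * k * j) * j⁻¹ by group, mul_assoc j⁻¹, ← this, inv_mul_cancel_left,
      mul_assoc j v, ← mem_cent1.1 c, ← mul_assoc, ← mul_assoc, this]
    simp only [mul_assoc]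

theorem hnc : h ∉ 𝐂 V := fun c => by
  have := H.tr.inf_cent (by have := H.four; omega)
  rw [inf_eq_left.2 (cent_symm (zpowers_le.2 c))] at this
  have := H.four
  simp_all

theorem fix (hk : k ∈ zpowers h) (n : k ∉ 𝐂 V) (hx : x ∈ X) (c : x ∈ 𝐂₁ k) : x = 1 ∨ x = t := by
  have tk : t ∈ 𝐂₁ k := mem_cent1_comm.1 (zpowers_le.2 H.ht hk)
  have o : ∀ v ∈ V, v ∈ 𝐂₁ k → v = 1 := fun v hv c => by_contra fun v1 =>
    n (H.cent_of hk hv v1 (mem_cent1_comm.1 c))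
  rw [← H.it.mem_zpowers, (H.k.inf_left (K := 𝐂₁ k)).nil.eq_of_inf_norm_le (K := zpowers t)
    (zpowers_le.2 ⟨H.tX, tk⟩) fun y hy => ?_]
  · exact ⟨hx, c⟩
  have : y ∈ 𝐂₁ t := by
    rcases H.it.mem_zpowers.1 (conj_mem_of_norm hy.2 (mem_zpowers t)) with e | e
    · exact absurd e (H.it.conj y).ne_one
    · exact mem_cent1.2 (mul_inv_eq_iff_eq_mul.1 e)
  rw [H.it.mem_zpowers]
  exact (H.cen y hy.1.1 this).imp (fun e => o y e hy.1.2) fun e =>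
    (eq_inv_of_mul_eq_one_right (o _ e (mul_mem tk hy.1.2))).trans H.it.inv_eq

theorem fixq (n : M ⊴ L) (l : L ≤ X) (a : h ∈ 𝐍 M) (b : h ∈ 𝐍 L) (e : t ∈ M ∨ t ∉ L) (hk : k ∈ zpowers h)
    (hx : x ∈ L) (m : x ∉ M) (c : qe M k ∈ 𝐂₁ (qe M x)) : k ∈ 𝐂 V := by
  by_contra f
  have a' := zpowers_le.2 a hk
  have := qt_inf_cent' (K := M) (H := L) (zpowers_le.2 a') (zpowers_le.2 (zpowers_le.2 b hk))
    (cop2' (H.oh.of_mem_zpowers hk).zpowers (H.k.le (n.le.trans l))) (.inl (abel_zpowers k).sol)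
  rw [qt_zpowers a', cent_zpowers, cent_zpowers] at this
  obtain ⟨y, hy, ny, e'⟩ := mem_qt.1 (this.ge ⟨qe_mem_qt hx (n.norm hx), mem_cent1_comm.1 c⟩)
  rw [qe_eq_iff ny (n.norm hx)] at e'
  rcases H.fix hk f (l hy.1) hy.2 with rfl | rfl
  · exact m (by simpa using e')
  · exact m ((mul_mem_cancel_left (inv_mem (e.resolve_right fun r => r hy.1))).1 e')

theorem sec (n : M ⊴ L) (l : L ≤ X) (a : h ∈ 𝐍 M) (b : h ∈ 𝐍 L) (e : t ∈ M ∨ t ∉ L) (i : M.relIndex L ≤ ♯V)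
    (hx : x ∈ L) (m : x ∉ M) (hy : y ∈ L) (m' : y ∉ M) : ∃ k ∈ zpowers h, (k * x * k⁻¹)⁻¹ * y ∈ M := by
  have a' := zpowers_le.2 a
  obtain ⟨v, hv, v1⟩ := exists_mem_ne_one (H := V) (one_lt_card.1 (by have := H.four; omega))
  have x1 : ∀ x ∈ L, x ∉ M → qe M x ≠ 1 := fun x hx m e => m ((qe_eq_one (n.norm hx)).1 e)
  have := tr_of_card (qt_norm M (zpowers_le.2 b)) (qe_mem_qt hx (n.norm hx)) (x1 x hx m) (by
    rw [card_qt n.norm, ← relIndex_qp_left _ a', ← inf_relIndex_right (qp _ _)]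
    refine i.trans ?_
    rw [← H.tr.card (zpowers_le.2 H.hV) hv v1, Nat.add_le_add_iff_right]
    exact Nat.le_of_dvd (relIndex_pos _ _) (relIndex_dvd_left _ fun k hk =>
      cent_le_cent1 hv (H.fixq n l a b e hk.2 hx m (mem_qp.1 hk.1).2)))
  obtain ⟨j, hj, e⟩ := this _ (qe_mem_qt hx (n.norm hx)) (x1 x hx m) _ (qe_mem_qt hy (n.norm hy)) (x1 y hy m')
  obtain ⟨k, hk, nk, rfl⟩ := mem_qt.1 hj
  rw [← qe_conj nk (n.norm hx), qe_eq_iff (mul_mem (mul_mem nk (n.norm hx)) (inv_mem nk)) (n.norm hy)] at e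
  exact ⟨k, hk, e⟩

theorem VZ : V ≤ 𝐂 X := by
  by_cases c : X ≤ 𝐂₁ t
  · exact cent_symm ((abel_of_sq fun x hx => H.sqA hx (c hx)).cent le_rfl H.VX)
  refine inf_eq_left.1 (H.tr.eq_of_norm inf_le_left (zpowers_le.2 (norm_inf_cent (zpowers_le.2 H.hV)
    (zpowers_le.2 H.hX) (mem_zpowers h))) ?_)
  obtain ⟨z, hz, z1⟩ := exists_mem_ne_one (H.k.inf_cent_ne_bot H.k (le_norm_self X) (ne_bot_of_mem H.tX H.it.ne_one))
  have zt := cent_le_cent1 H.tX hz.2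
  rcases H.cen z hz.1 zt with e | e
  · exact ne_bot_of_mem ⟨e, hz.2⟩ z1
  have hz' : z ∈ 𝐂 X := hz.2
  refine ne_bot_of_mem (x := (t * z)⁻¹ * (h * (t * z) * h⁻¹)) (mem_inf.2 ⟨mul_mem (inv_mem e) (conj_mem_of_norm H.hV e), ?_⟩)
    fun f => H.hnc (H.cent_of (mem_zpowers h) e (fun f' => c (le_cent1_iff.2 ?_))
      (mem_cent1.2 (mul_inv_eq_iff_eq_mul.1 (inv_mul_eq_one.1 f).symm)))
  · rw [H.tk (mem_zpowers h), mul_inv_rev, mul_assoc, inv_mul_cancel_left]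
    exact mul_mem (inv_mem hz') (conj_mem_of_norm (norm_le_norm_cent X H.hX) hz')
  · rw [eq_inv_of_mul_eq_one_left f']
    exact inv_mem hz'

end SL

/-- `P` is inverted by `t` -/
structure IP (t h : G) (V P X : Subgroup G) : Prop extends SL t h V X where
  VP : V ≤ P
  PX : P ≤ X
  tP : t ∉ P
  inv : Nv t P
  hP : h ∈ 𝐍 P

namespace IP
variable (H : IP t h V P X)
include H

theorem abel : Abel P := H.inv.abel H.it.sq
theorem tnP : t ∈ 𝐍 P := H.inv.norm H.it.sq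

theorem om (hp : p ∈ P) (e : p * p = 1) : p ∈ V := by
  refine (H.cen p (H.PX hp) ?_).resolve_right fun f => H.tP ((mul_mem_cancel_right hp).1 (H.VP f))
  rw [mem_cent1, eq_comm, ← mul_inv_eq_iff_eq_mul, inv_of_sq H.it.sq (H.inv p hp), ← eq_inv_of_mul_eq_one_right e]

theorem idx : (sqs P).relIndex P = ♯V :=
  relIndex_sqs H.abel fun p => ⟨fun hp => ⟨H.VP hp, H.sq p hp⟩, fun hp => H.om hp.1 hp.2⟩

theorem conj_sq (hp : p ∈ P) (hx : x ∈ P) : p⁻¹ * (t * x) * p⁻¹⁻¹ = t * (x * (p * p)) := by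
  rw [inv_inv, ← inv_of_sq H.it.sq (H.inv p hp), H.it.inv_eq, show t * p * t * (t * x) * p = t * p * (t * t) * x * p by group,
    H.it.sq, mul_one, mul_assoc t, H.abel.mul_comm hp hx]
  simp only [mul_assoc]

theorem all (l : P ≤ Y) (n : h ∈ 𝐍 Y) (hy : y ∈ Y) (hx : x ∈ P) (m : x ∉ sqs P) (e : y * t * y⁻¹ = t * x)
    (hp : p ∈ P) : ∃ g ∈ Y, g * t * g⁻¹ = t * p := by
  by_cases c : p ∈ sqs P
  · obtain ⟨q, hq, rfl⟩ := (mem_sqs H.abel).1 c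
    exact ⟨q⁻¹, inv_mem (l hq), by simpa using H.conj_sq hq (one_mem P)⟩
  obtain ⟨k, hk, f⟩ := H.sec ⟨sqs_le, (le_norm_self P).trans norm_sqs⟩ H.PX (norm_sqs H.hP) H.hP (.inr H.tP) H.idx.le hx m hp c
  obtain ⟨q, hq, f⟩ := (mem_sqs H.abel).1 f
  refine ⟨q⁻¹ * (k * y * k⁻¹), mul_mem (inv_mem (l hq)) (conj_mem_of_norm (zpowers_le.2 n hk) hy), ?_⟩
  have := H.conj_sq hq (conj_mem_of_norm (zpowers_le.2 H.hP hk) hx)
  rw [f, mul_inv_cancel_left, ← H.tk hk, ← e] at this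
  rw [← this, show q⁻¹ * (k * y * k⁻¹) * t * (q⁻¹ * (k * y * k⁻¹))⁻¹ =
    q⁻¹ * (k * (y * (k⁻¹ * t * k⁻¹⁻¹) * y⁻¹) * k⁻¹) * q⁻¹⁻¹ by group, H.kt (inv_mem hk)]

theorem comm_eq : ⁅P, zpowers h⁆ = P := by
  have := comm_sup_inf_cent (zpowers_le.2 H.hP) (cop2' H.oh.zpowers (H.k.le H.PX)) (.inl (abel_zpowers h).sol)
  rwa [eq_bot_of_forall (H := P ⊓ _) fun x hx => (H.fix (mem_zpowers h) H.hnc (H.PX hx.1)
    (cent_zpowers h ▸ hx.2)).resolve_right fun e => H.tP (e ▸ hx.1), sup_bot_eq] at this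

theorem memD : x ∈ P ⊔ zpowers t ↔ x ∈ P ∨ t * x ∈ P := mem_sup_iv H.it.sq H.tnP

theorem comm_eq' (e : ∀ x ∈ X, x ∈ P ∨ t * x ∈ P) : ⁅X, zpowers h⁆ = P := by
  rw [show X = zpowers t ⊔ P from le_antisymm (fun x hx => sup_comm P _ ▸ H.memD.2 (e x hx))
    (sup_le (zpowers_le.2 H.tX) H.PX), comm_sup_cent (cent_zpowers h ▸ zpowers_le.2 (mem_cent1_comm.1 H.ht))
    (zpowers_le.2 H.tnP), H.comm_eq]

/-- conjugates of `t` by elements outside `P⟨t⟩` -/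
theorem not_sqs (hy : y ∈ X) (e : y * t * y⁻¹ = t * x) (m : x ∈ sqs P) : y ∈ P ⊔ zpowers t := by
  obtain ⟨q, hq, rfl⟩ := (mem_sqs H.abel).1 m
  have := H.conj_sq hq (one_mem P)
  rw [one_mul, mul_one, ← e] at this
  have c : q * y ∈ 𝐂₁ t := by
    rw [mem_cent1, ← mul_inv_eq_iff_eq_mul, show q * y * t * (q * y)⁻¹ = q * (y * t * y⁻¹) * q⁻¹ by group, ← this]
    group
  exact (mul_mem_cancel_left (mem_sup_left hq)).1 (sup_le_sup_right H.VP _ (H.cen_eq.le ⟨mul_mem (H.PX hq) hy, c⟩))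

end IP

/-- the second case: `P` is the derived subgroup of `X` -/
structure II (t h : G) (V P X : Subgroup G) : Prop extends IP t h V P X where
  nP : X ≤ 𝐍 P
  nD : ∀ y ∈ X, t * (y * t * y⁻¹) ∈ P
  ne : ¬ X ≤ P ⊔ zpowers t

namespace II
variable (H : II t h V P X)
include H

theorem conj (hp : p ∈ P) : ∃ y ∈ X, y * t * y⁻¹ = t * p := by
  obtain ⟨y, hy, m⟩ := SetLike.not_le_iff_exists.1 H.ne
  have e : y * t * y⁻¹ = t * (t * (y * t * y⁻¹)) := by rw [← mul_assoc t t, H.it.sq, one_mul]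
  exact H.all H.PX H.hX hy (H.nD y hy) (fun f => m (H.not_sqs hy e f)) e hp

theorem card : ♯X = 2 * ♯V * ♯P := by
  rw [← H.card_cen, ← ncard_coset t P, ncard_of_trans_cj (P := X) (x := t), inf_comm, card_inf_mul_relIndex]
  · exact fun g hg => H.it.inv_eq.symm ▸ H.nD g hg
  · exact fun y hy => by simpa using H.conj hy

theorem nml : P ⊔ zpowers t ⊴ X := ⟨sup_le H.PX (zpowers_le.2 H.tX), le_norm_iff.2 fun g hg x hx => by
  rcases H.memD.1 hx with e | e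
  · exact mem_sup_left (conj_mem_of_norm (H.nP hg) e)
  · refine H.memD.2 (.inr (mem_of_eq (mul_mem (H.nD g hg) (conj_mem_of_norm (H.nP hg) e)) ?_))
    rw [show t * (g * t * g⁻¹) * (g * (t * x) * g⁻¹) = t * (g * (t * t * x) * g⁻¹) by group, H.it.sq, one_mul]⟩

theorem idxD : (P ⊔ zpowers t).relIndex X = ♯V := by
  have := card_mul_relIndex H.nml.le
  rw [card_sup_iv H.it H.tnP H.tP, H.card, mul_right_comm 2 (♯V)] at this
  exact Nat.eq_of_mul_eq_mul_left (Nat.mul_pos two_pos (card_pos' _)) this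

theorem hD : h ∈ 𝐍 (P ⊔ zpowers t : Subgroup G) :=
  zpowers_le.1 (norm_sup (zpowers_le.2 H.hP) (norm_of_cent (zpowers_le.2 (cent_zpowers t ▸ H.ht))))

theorem trD (hx : x ∈ X) (m : x ∉ P ⊔ zpowers t) (hy : y ∈ X) (m' : y ∉ P ⊔ zpowers t) :
    ∃ k ∈ zpowers h, (k * x * k⁻¹)⁻¹ * y ∈ P ⊔ zpowers t :=
  H.sec H.nml le_rfl H.hD H.hX (.inl (mem_sup_right (mem_zpowers t))) H.idxD.le hx m hy m'

theorem sqP (hx : x ∈ X) : x * x ∈ P := by
  have : x * x ∈ P ⊔ zpowers t := by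
    by_cases m : x ∈ P ⊔ zpowers t
    · exact mul_mem m m
    obtain ⟨j, hj, o⟩ := BG.exists_mem_orderOf_eq p2 ((H.k.qt (P ⊔ zpowers t)).dvd_card fun e =>
      H.ne ((qt_eq_bot H.nml.norm).1 e))
    obtain ⟨y, hy, ny, rfl⟩ := mem_qt.1 hj
    have i : Iv (qe (P ⊔ zpowers t) y) := o
    obtain ⟨k, hk, e⟩ := H.trD hy (fun e => i.ne_one (qe_of_mem e)) hx m
    have nk := zpowers_le.2 H.hD hk
    have nx := H.nml.norm hx
    rw [← qe_eq_iff (mul_mem (mul_mem nk ny) (inv_mem nk)) nx, qe_conj nk ny] at e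
    rw [← qe_eq_one (mul_mem nx nx), qe_mul nx nx, ← e, (i.conj _).sq]
  refine (H.memD.1 this).resolve_right fun e => ?_
  obtain ⟨y, hy, e⟩ := H.conj e
  rw [← mul_assoc t t, H.it.sq, one_mul] at e
  exact H.nsq hx hy e.symm

theorem abq : Abel (qt P X) := abel_of_sq fun _ hj => by
  obtain ⟨y, hy, ny, rfl⟩ := mem_qt.1 hj
  rw [← qe_mul ny ny, qe_of_mem (H.sqP hy)]

theorem der : ⁅X, X⁆ = P := le_antisymm ((abel_qt_iff H.nP).1 H.abq) fun p hp => by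
  obtain ⟨y, hy, e⟩ := H.conj hp
  refine mem_of_eq (commutator_mem_commutator (inv_mem H.tX) hy) ?_
  rw [commutatorElement_def, inv_inv, ← inv_mul_cancel_left t p, ← e]
  simp only [mul_assoc]

theorem PQ : P ≤ ⁅X, zpowers h⁆ := H.comm_eq.ge.trans (commutator_mono H.PX le_rfl)
theorem QX : ⁅X, zpowers h⁆ ≤ X := comm_le_left (zpowers_le.2 H.hX)

theorem tQ : t ∉ ⁅X, zpowers h⁆ := fun m => by
  have a := zpowers_le.2 H.hP
  have := H.abq.comm_inf_cent (qt_norm P (zpowers_le.2 H.hX)) (coprime_qt P (cop2' H.oh.zpowers H.k))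
  rw [← qt_comm H.nP a] at this
  exact H.tP ((qe_eq_one H.tnP).1 (eq_one_of_mem_bot this ⟨qe_mem_qt m H.tnP,
    qt_cent P (cent_zpowers h ▸ zpowers_le.2 (mem_cent1_comm.1 H.ht)) (qe_mem_qt (mem_zpowers t) H.tnP)⟩))

theorem supQ : ⁅X, zpowers h⁆ ⊔ zpowers t = X := by
  refine le_antisymm (sup_le H.QX (zpowers_le.2 H.tX)) ((comm_sup_inf_cent (zpowers_le.2 H.hX)
    (cop2' H.oh.zpowers H.k) (.inl (abel_zpowers h).sol)).ge.trans (sup_le_sup_left (fun x hx => ?_) _))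
  exact H.it.mem_zpowers.2 (H.fix (mem_zpowers h) H.hnc hx.1 (cent_zpowers h ▸ hx.2))

theorem cases (hx : x ∈ X) : x ∈ ⁅X, zpowers h⁆ ∨ t * x ∈ ⁅X, zpowers h⁆ :=
  (mem_sup_iv H.it.sq (norm_comm_left X _ H.tX)).1 (H.supQ.ge hx)

theorem cardQ : ♯(⁅X, zpowers h⁆ : Subgroup G) = ♯V * ♯P := by
  have := card_sup_iv H.it (norm_comm_left X _ H.tX) H.tQ
  rw [H.supQ, H.card, mul_assoc] at this
  omega

theorem memP (hx : x ∈ ⁅X, zpowers h⁆) (m : x ∈ P ⊔ zpowers t) : x ∈ P :=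
  (H.memD.1 m).resolve_right fun e => H.tQ ((mul_mem_cancel_right hx).1 (H.PQ e))

theorem trQ (hx : x ∈ ⁅X, zpowers h⁆) (m : x ∉ P) (hy : y ∈ ⁅X, zpowers h⁆) (m' : y ∉ P) :
    ∃ k ∈ zpowers h, ∃ p ∈ P, y = k * (x * p) * k⁻¹ := by
  obtain ⟨k, hk, e⟩ := H.trD (H.QX hx) (fun e => m (H.memP hx e)) (H.QX hy) fun e => m' (H.memP hy e)
  exact ⟨k, hk, _, conj_mem_of_norm' (zpowers_le.2 H.hP hk) (H.memP (mul_mem (inv_mem
    (conj_mem_of_norm (norm_comm_right X _ hk) hx)) hy) e), by group⟩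

theorem big (hu : u ∈ ⁅X, zpowers h⁆) (m : u ∉ P) (e : ∀ p ∈ P, u * p * (u * p) = 1) (hx : x ∈ ⁅X, zpowers h⁆) :
    x * x = 1 := by
  have o : ∀ x ∈ ⁅X, zpowers h⁆, x ∉ P → x * x = 1 := fun x hx m' => by
    obtain ⟨k, -, p, hp, rfl⟩ := H.trQ hu m hx m'
    exact IC.conj_sq (e p hp) k
  refine by_contra fun f => f ?_
  have c : x ∈ P := by_contra fun c => f (o x hx c)
  have i : ∀ y ∈ ⁅X, zpowers h⁆, y ∉ P → y * x * y⁻¹ = x⁻¹ := fun y hy n =>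
    inv_of_sq (o y hy n) (o _ (mul_mem hy hx) fun g => n ((mul_mem_cancel_right c).1 g))
  have hv := conj_mem_of_norm (norm_comm_right X _ (mem_zpowers h)) hu
  have mv : h * u * h⁻¹ ∉ P := fun g => m ((mem_norm.1 H.hP u).2 g)
  have nu := H.nP (H.QX hu)
  have := i _ (mul_mem (inv_mem hu) hv) fun g => H.hnc (H.fixq ⟨H.PQ, H.QX.trans H.nP⟩ H.QX H.hP
    (norm_comm_right X _ (mem_zpowers h)) (.inr H.tQ) (mem_zpowers h) hu m (by
      rw [← qe_eq_iff nu (H.nP (H.QX hv)), qe_conj H.hP nu] at g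
      exact mem_cent1.2 (mul_inv_eq_iff_eq_mul.1 g.symm)))
  rw [show u⁻¹ * (h * u * h⁻¹) * x * (u⁻¹ * (h * u * h⁻¹))⁻¹ =
    (u⁻¹ * (h * u * h⁻¹ * x * (h * u * h⁻¹)⁻¹)⁻¹ * u⁻¹⁻¹)⁻¹ by group, i _ hv mv, inv_inv x,
    i _ (inv_mem hu) fun g => m (inv_mem_iff.1 g), inv_inv] at this
  exact mul_eq_one_iff_eq_inv.2 this

theorem small (hu : u ∈ ⁅X, zpowers h⁆) (e : u * u = 1) (m : u ∉ V) : 2 * ♯V < ♯(X ⊓ 𝐂₁ u : Subgroup G) := by
  by_contra! c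
  have m' : u ∉ P := fun f => m (H.om f e)
  have ux := H.QX hu
  have l : ⁅X, zpowers h⁆ ≤ X ⊓ 𝐂₁ u := le_inf H.QX (le_cent1_iff.2 ((abel_of_sq fun x hx =>
    H.big hu m' (fun p hp => ?_) hx).cent le_rfl le_rfl hu))
  · have := card_le l
    have := card_le H.VP
    have := H.four
    rw [H.cardQ] at *
    nlinarith
  obtain ⟨g, -, f⟩ := trans_of_card_cj (P := X) (x := u) (S := {y | u⁻¹ * y ∈ P}) (y := u * p) (fun g hg =>
    H.der.le (mem_of_eq (commutator_mem_commutator (inv_mem ux) hg) (by rw [commutatorElement_def]; group)))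
    (by
      have := card_inf_mul_relIndex (𝐂₁ u) X
      rw [H.card, inf_comm] at this
      rw [ncard_coset]
      by_contra! d
      have := card_pos' V
      nlinarith) (by simpa using hp)
  exact f ▸ IC.conj_sq e g

theorem stab (n : ¬ Nv t ⁅X, zpowers h⁆) (hg : g ∈ 𝐍 X) : ∃ y ∈ X, y * t * y⁻¹ = g * t * g⁻¹ := by
  have ux := conj_mem_of_norm hg H.tX
  have c : ♯(X ⊓ 𝐂₁ (g * t * g⁻¹) : Subgroup G) = 2 * ♯V := by
    rw [← H.card_cen, ← card_cj g (X ⊓ 𝐂₁ t), cj_inf, cj_cent1, cj_eq_self.2 hg]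
  have m : t * (g * t * g⁻¹) ∈ ⁅X, zpowers h⁆ := (H.cases ux).resolve_left fun m =>
    (H.small m (H.it.conj g).sq fun f => by
      rw [inf_eq_left.2 (le_cent1_iff.2 (H.VZ f)), H.card] at c
      have := card_le H.VP
      have := H.four
      nlinarith).ne' c
  have e : t * (t * (g * t * g⁻¹)) = g * t * g⁻¹ := by rw [← mul_assoc t t, H.it.sq, one_mul]
  by_cases m' : t * (g * t * g⁻¹) ∈ P
  · exact e ▸ H.conj m'
  refine absurd (fun x hx => ?_) n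
  by_cases f : x ∈ P
  · exact H.inv x f
  obtain ⟨k, hk, p, hp, rfl⟩ := H.trQ m m' hx f
  have := IC.conj_sq (H.inv _ (conj_mem_of_norm' (H.der ▸ norm_der X hg) hp)) g
  rw [← H.tk hk, ← mul_assoc t, e]
  refine IC.conj_sq (Eq.trans ?_ this) k
  group

end II

theorem SL.cases (H : SL t h V X) :
    ∃ P, (IP t h V P X ∧ ∀ x ∈ X, x ∈ P ∨ t * x ∈ P) ∨ II t h V P X ∧ ¬ Nv t ⁅X, zpowers h⁆ := by
  obtain ⟨P, -, I, mx⟩ := exists_maximal (P := fun P => IP t h V P X) ⟨H, le_rfl, H.VX, H.tV, H.nv, H.hV⟩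
  refine ⟨P, ?_⟩
  have l : P ⊔ zpowers t ≤ X := sup_le I.PX (zpowers_le.2 H.tX)
  rcases l.eq_or_lt with e | e
  · exact .inl ⟨I, fun x hx => I.memD.1 (e.ge hx)⟩
  have e' := H.k.nil.lt_inf_norm e
  have tD : t ∈ P ⊔ zpowers t := mem_sup_right (mem_zpowers t)
  have fx : ∀ y ∈ X, ∀ x, y * x * y⁻¹ ∈ V → y * x * y⁻¹ = x := fun y hy x m => by
    have := mem_cent.1 (H.VZ m) _ (inv_mem hy)
    rwa [← mul_assoc, ← mul_assoc, inv_mul_cancel, one_mul, mul_left_inj, eq_comm] at this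
  have J : II t h V P (X ⊓ 𝐍 (P ⊔ zpowers t : Subgroup G)) := by
    refine ⟨⟨H.mono inf_le_left (e'.le tD) (I.VP.trans (le_sup_left.trans e'.le)) ?_, I.VP, le_sup_left.trans e'.le,
      I.tP, I.inv, I.hP⟩, le_norm_iff.2 fun y hy p hp => ?_, fun y hy => ?_, e'.not_ge⟩
    · exact zpowers_le.1 (norm_inf (zpowers_le.2 H.hX) ((norm_sup (zpowers_le.2 I.hP)
        (norm_of_cent (zpowers_le.2 (cent_zpowers t ▸ H.ht)))).trans (norm_le_norm_norm _)))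
    · refine (I.memD.1 (conj_mem_of_norm hy.2 (mem_sup_left hp))).elim id fun f => ?_
      have := I.inv _ f
      rw [← mul_assoc t t, H.it.sq, one_mul] at this
      have v := I.om hp (by simpa [mul_assoc] using IC.conj_sq this y⁻¹)
      rw [mem_cent.1 (H.VZ v) y hy.1, mul_inv_cancel_right]
      exact hp
    · refine (I.memD.1 (conj_mem_of_norm hy.2 tD)).resolve_left fun f => ?_
      have v := I.om f (H.it.conj y).sq
      exact H.tV (fx y hy.1 t v ▸ v)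
  have n : ¬ Nv t ⁅X ⊓ 𝐍 (P ⊔ zpowers t : Subgroup G), zpowers h⁆ := fun n => by
    have := J.cardQ
    rw [mx _ ⟨H, I.VP.trans J.PQ, J.QX.trans inf_le_left, J.tQ, n, norm_comm_right _ _ (mem_zpowers h)⟩ J.PQ] at this
    have := H.four
    have := card_pos' P
    nlinarith
  have := H.k.nil.eq_of_inf_norm_le (K := X ⊓ 𝐍 (P ⊔ zpowers t : Subgroup G)) inf_le_left fun g hg => by
    obtain ⟨y, hy, f⟩ := J.stab n hg.2
    have c : y⁻¹ * g ∈ 𝐂₁ t := by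
      rw [mem_cent1, ← mul_inv_eq_iff_eq_mul, show y⁻¹ * g * t * (y⁻¹ * g)⁻¹ = y⁻¹ * (g * t * g⁻¹) * y by group, ← f]
      group
    have m := e'.le (sup_le_sup_right I.VP _ (H.cen_eq.le (mem_inf.2
      ⟨mul_mem (inv_mem (mem_inf.1 hy).1) (mem_inf.1 hg).1, c⟩)))
    exact (mul_mem_cancel_left (inv_mem hy)).1 m
  rw [this] at J n
  exact .inr ⟨J, n⟩

end CF.IC
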