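/-
An involution `t` whose centralizer has elementary abelian Sylow `2`-subgroup `⟨t⟩ × V`: the maximal `2`-subgroup
normalized by an element transitive on `V#`.
-/
import Cfsg.Agent.IC.B
set_option autoImplicit false
set_option linter.unusedSectionVars false

namespace CF.IC
open Subgroup Cfsg CF.BG CF.Sig CF.GW CF.Ab2
open CF.ZD (abel_of_sq trans_of_card_cj ncard_coset ncard_of_trans_cj relIndex_le_cj)
open scoped commutatorElement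

variable {G : Type*} [Group G] [Finite G]
variable {A B D E K L M N P Q R S T U V W X Y : Subgroup G} {a b c d e g h h' k p s t u v w x y z : G}

theorem zpow_mod (n : h ∈ 𝐍 K) (n' : h' ∈ 𝐍 K) (e : h⁻¹ * h' ∈ K) (hk : k ∈ zpowers h) :
    ∃ k' ∈ zpowers h', k⁻¹ * k' ∈ K := by
  obtain ⟨i, rfl⟩ := hk
  refine ⟨_, ⟨i, rfl⟩, (qe_eq_iff (zpow_mem n i) (zpow_mem n' i)).1 ?_⟩
  rw [qe_zpow n, qe_zpow n', (qe_eq_iff n n').2 e]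

theorem conj_mod (e : k⁻¹ * g ∈ 𝐂 V) (hv : v ∈ V) : g * v * g⁻¹ = k * v * k⁻¹ := by
  rw [show g * v * g⁻¹ = k * (k⁻¹ * g * v) * (k⁻¹ * g)⁻¹ * k⁻¹ by group, ← mem_cent.1 e v hv]
  group

theorem cent1_of_conj (e : y * t * y⁻¹ = g * t * g⁻¹) : y⁻¹ * g ∈ 𝐂₁ t := by
  rw [mem_cent1, ← mul_inv_eq_iff_eq_mul, show y⁻¹ * g * t * (y⁻¹ * g)⁻¹ = y⁻¹ * (g * t * g⁻¹) * y by group, ← e]
  group

theorem ri_inf (l : K ≤ N) : (N ⊓ A).relIndex K = A.relIndex K := by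
  rw [← inf_relIndex_right, inf_right_comm, inf_eq_right.2 l, inf_comm, inf_relIndex_right]

structure LE (L : Subgroup G) (t h : G) (V : Subgroup G) : Prop where
  sl : SL t h V (V ⊔ zpowers t)
  tL : t ∈ L
  VL : V ≤ L
  hL : h ∈ L
  syl : Syl 2 (V ⊔ zpowers t) (L ⊓ 𝐂₁ t)
  nrm : ∀ g ∈ L ⊓ 𝐂₁ t ⊓ 𝐍 V, ∃ k ∈ zpowers h, k⁻¹ * (g * h * g⁻¹) ∈ 𝐂 V
  nf : ∀ g ∈ L, g * t * g⁻¹ ∉ V

/-- the exceptional configuration `N(X)/X ≅ L₃(2)` -/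
structure EX (L : Subgroup G) (t h : G) (V P X : Subgroup G) : Prop extends IP t h V P X where
  cases : ∀ x ∈ X, x ∈ P ∨ t * x ∈ P
  c8 : ♯V = 8
  all : ∀ p ∈ P, ∃ g ∈ L ⊓ 𝐍 X, g * t * g⁻¹ = t * p
  nP : L ⊓ 𝐍 X ≤ 𝐍 P
  nV : L ⊓ 𝐍 X ≤ 𝐍 V
  sylD : Syl 2 X (L ⊓ 𝐍 X ⊓ 𝐂 V)
  card : ∀ Y, Syl 2 Y (L ⊓ 𝐍 X) → ♯Y = 8 * ♯X
  conj : ∀ a ∈ L ⊓ 𝐍 X, ∀ b ∈ L ⊓ 𝐍 X, a ∉ 𝐂 V → b ∉ 𝐂 V → a * a ∈ 𝐂 V → b * b ∈ 𝐂 V →
    ∃ g ∈ L ⊓ 𝐍 X, (g * a * g⁻¹)⁻¹ * b ∈ 𝐂 V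

namespace LE
variable (H : LE L t h V)
include H

theorem eqA (k : P2 X) (l : X ≤ L) (m : t ∈ X) (l' : V ≤ X) : X ⊓ 𝐂₁ t = V ⊔ zpowers t :=
  (H.syl.eq_of_le (le_inf (sup_le l' (zpowers_le.2 m)) (H.syl.le.trans inf_le_right)) (inf_le_inf_right _ l)
    k.inf_left).symm

theorem mkSL (k : P2 X) (l : X ≤ L) (m : t ∈ X) (l' : V ≤ X) (n : h ∈ 𝐍 X) : SL t h V X :=
  { H.sl with
    k := k, tX := m, VX := l', hX := n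
    cen := fun _ hx c => (mem_sup_iv H.sl.it.sq H.sl.tn).1 ((H.eqA k l m l').le ⟨hx, c⟩) }

theorem congr (m : h' ∈ L) (c : h' ∈ 𝐂₁ t) (o : Eo h') (n : h' ∈ 𝐍 V) (e : h⁻¹ * h' ∈ 𝐂 V) : LE L t h' V := by
  have n1 := norm_le_norm_cent V H.sl.hV
  have n2 := norm_le_norm_cent V n
  refine { H with
    sl := { H.sl with
      oh := o, ht := c, hV := n
      hX := zpowers_le.1 (norm_sup (zpowers_le.2 n) (norm_of_cent (zpowers_le.2 (cent_zpowers t ▸ c))))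
      tr := fun v hv v1 w hw w1 => ?_ }
    hL := m
    nrm := fun g hg => ?_ }
  · obtain ⟨k, hk, f⟩ := H.sl.tr v hv v1 w hw w1
    obtain ⟨k', hk', f'⟩ := zpow_mod n1 n2 e hk
    exact ⟨k', hk', (conj_mod f' hv).trans f⟩
  · obtain ⟨k, hk, f⟩ := H.nrm g hg
    obtain ⟨k', hk', f'⟩ := zpow_mod n1 n2 e hk
    exact ⟨k', hk', mem_of_eq (mul_mem (mul_mem (inv_mem f') f)
      (conj_mem_of_norm (norm_le_norm_cent V hg.2) e)) (by group)⟩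

variable (I : SL t h V X) (l : X ≤ L)
include I l

theorem two_mem (hy : y ∈ L ⊓ 𝐍 X ⊓ 𝐂₁ t) (e : E2 y) : y ∈ V ⊔ zpowers t :=
  H.syl.mem_of_norm ⟨hy.1.1, hy.2⟩ (I.cen_eq ▸ zpowers_le.1 (norm_inf (zpowers_le.2 hy.1.2)
    (norm_of_le (zpowers_le.2 hy.2)))) e

theorem odd_cent (hy : y ∈ 𝐍 X) (c : y ∈ 𝐂₁ t) (c' : y ∈ 𝐂 V) (o : Eo y) : y ∈ 𝐂 X :=
  zpowers_le.1 (cent_of_pxq I.it.piGrp I.k o.zpowers (cent_symm (zpowers_le.2 (cent_zpowers t ▸ c)))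
    (zpowers_le.2 (le_norm_self X I.tX)) (zpowers_le.2 hy) (by
      rw [cent_zpowers, I.cen_eq]
      exact cent_symm (zpowers_le.2 (cent_sup V _ ▸ ⟨c', cent_zpowers t ▸ c⟩))))

theorem cenA (hy : y ∈ L ⊓ 𝐍 X ⊓ 𝐂₁ t) (c : y ∈ 𝐂 V) : y ∈ X ⊔ L ⊓ 𝐍 X ⊓ 𝐂 X := by
  obtain ⟨a, b, ha, hb, e, o, rfl⟩ := exists_piPart {2} y
  have := zpowers_le.2 hy hb
  exact mul_mem (mem_sup_left (I.cen_eq.ge (H.two_mem I l (zpowers_le.2 hy ha) e)).1)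
    (mem_sup_right ⟨this.1, H.odd_cent I l this.1.2 this.2 (zpowers_le.2 c hb) o⟩)

theorem sylB : Syl 2 X (X ⊔ L ⊓ 𝐍 X ⊓ 𝐂₁ t) := by
  refine ⟨le_sup_left, I.k, ?_⟩
  rw [relIndex_sup_norm' (.inl (inf_le_left.trans inf_le_right)), ← inf_relIndex_right,
    show X ⊓ (L ⊓ 𝐍 X ⊓ 𝐂₁ t) = V ⊔ zpowers t from I.cen_eq ▸ by
      rw [← inf_assoc, inf_eq_left.2 (le_inf l (le_norm_self X))]]
  exact (H.syl.of_le (I.cen_eq.ge.trans (inf_le_inf_right _ (le_inf l (le_norm_self X))))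
    (inf_le_inf_right _ inf_le_left)).idx

theorem sylK : Syl 2 X (X ⊔ L ⊓ 𝐍 X ⊓ 𝐂 X) :=
  (H.sylB I l).of_le le_sup_left (sup_le_sup_left (inf_le_inf_left _ (cent_le_cent1 I.tX)) _)

theorem grow (nV : L ⊓ 𝐍 X ≤ 𝐍 V) (n : W ⊴ L ⊓ 𝐍 X) (lt : X ⊔ L ⊓ 𝐍 X ⊓ 𝐂 X < W)
    (i : PiNat {2} ((X ⊔ L ⊓ 𝐍 X ⊓ 𝐂 X).relIndex W)) :
    ∃ Y h', LE L t h' V ∧ SL t h' V Y ∧ Y ≤ L ∧ X < Y := by
  obtain ⟨Y, s, lY⟩ := BG.exists_syl_le (le_sup_left.trans lt.le) I.k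
  have nK : X ⊔ L ⊓ 𝐍 X ⊓ 𝐂 X ⊴ L ⊓ 𝐍 X :=
    NormalIn.sup ⟨le_inf l (le_norm_self X), inf_le_right⟩ (normalIn_inf_cent inf_le_right)
  have e : X ⊔ L ⊓ 𝐍 X ⊓ 𝐂 X ⊔ Y = W := by
    refine le_antisymm (sup_le lt.le s.le) (relIndex_eq_one.1 ?_)
    exact (i.dvd (relIndex_dvd_left W le_sup_left)).eq_one (s.idx_of_le le_sup_right)
  obtain ⟨a, ha, b, hb, f⟩ := s.syl_frattini n (x := h) ⟨H.hL, I.hX⟩
  rw [← e, sup_comm X, sup_assoc, sup_eq_right.2 lY, mem_sup_norm' ((s.le.trans n.le).trans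
    (normalIn_inf_cent inf_le_right).norm)] at ha
  obtain ⟨c, hc, y, hy, rfl⟩ := ha
  have g1 : y * b ∈ L ⊓ 𝐍 X ⊓ 𝐂₁ t := ⟨mul_mem (n.le (s.le hy)) hb.1, (mul_mem_cancel_left
    (cent_le_cent1 I.tX hc.2)).1 (mem_of_eq I.ht (by rw [← f, mul_assoc]))⟩
  have g2 : y * b ∈ 𝐍 Y := mul_mem (le_norm_self Y hy) hb.2
  obtain ⟨a, b', ha, hb', e2, o, f'⟩ := exists_piPart {2} (y * b)
  have b1 := zpowers_le.2 g1 hb'
  have H' := H.congr b1.1.1 b1.2 o (nV b1.1) (by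
    have a1 : a ∈ 𝐂 V := cent_symm I.VZ (I.cen_eq.ge (H.two_mem I l (zpowers_le.2 g1 ha) e2)).1
    rw [← f, mul_assoc, ← f', show (c * (a * b'))⁻¹ * b' = b'⁻¹ * (c * a)⁻¹ * b' by group]
    exact conj_mem_of_norm' (norm_le_norm_cent V (nV b1.1)) (inv_mem (mul_mem (cent_anti I.VX hc.2) a1)))
  have lL := (s.le.trans n.le).trans inf_le_left
  refine ⟨Y, b', H', H'.mkSL s.pi lL (lY I.tX) (I.VX.trans lY) (zpowers_le.2 g2 hb'), lL, lY.lt_of_ne fun e' => lt.ne ?_⟩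
  rw [← e, ← e', sup_eq_left.2 le_sup_left]

omit I l in
theorem main : ∃ X h', LE L t h' V ∧ SL t h' V X ∧ X ≤ L ∧ (Syl 2 X L ∨ ∃ P, EX L t h' V P X) := by
  obtain ⟨X, ⟨h, H, I, l⟩, mx⟩ := exists_max_card (P := fun X => ∃ h', LE L t h' V ∧ SL t h' V X ∧ X ≤ L)
    ⟨h, H, H.sl, H.syl.le.trans inf_le_left⟩
  refine ⟨X, h, H, I, l, or_iff_not_imp_left.2 fun ns => ?_⟩
  have XN : X ≤ L ⊓ 𝐍 X := le_inf l (le_norm_self X)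
  obtain ⟨T, s, lT⟩ := BG.exists_syl_le XN I.k
  obtain ⟨y, hy, m⟩ := SetLike.exists_of_lt (lT.lt_of_ne fun e => ns (syl_of_syl_norm l (e ▸ s)))
  have yN := s.le hy
  have ny : ∀ x ∈ X, x * t * x⁻¹ ≠ y * t * y⁻¹ := fun x hx e => m ((mul_mem_cancel_left (inv_mem hx)).1 (I.cen_eq.ge
    (H.two_mem I l (mem_inf.2 ⟨mul_mem (inv_mem (XN hx)) yN, cent1_of_conj e⟩)
      (s.pi.elt (mul_mem (inv_mem (lT hx)) hy)))).1)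
  obtain ⟨P, ⟨J, cs⟩ | ⟨J, n⟩⟩ := I.cases
  swap
  · obtain ⟨x, hx, e⟩ := J.stab n yN.2
    exact absurd e (ny x hx)
  have tt : ∀ x, t * (t * x) = x := fun x => by rw [← mul_assoc, I.it.sq, one_mul]
  have tP : ∀ g ∈ L ⊓ 𝐍 X, t * (g * t * g⁻¹) ∈ P := fun g hg =>
    (cs _ (conj_mem_of_norm hg.2 I.tX)).resolve_left fun e => H.nf g hg.1 (J.om e (I.it.conj g).sq)
  have sq : ∀ g x, x ∈ sqs P → g * t * g⁻¹ = t * x → ∃ q ∈ P, q * t * q⁻¹ = g * t * g⁻¹ := fun g x hx e => by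
    obtain ⟨q, hq, rfl⟩ := (mem_sqs J.abel).1 hx
    exact ⟨q⁻¹, inv_mem hq, by simpa [e] using J.conj_sq hq (one_mem P)⟩
  have hN : h ∈ L ⊓ 𝐍 X := ⟨H.hL, I.hX⟩
  have all : ∀ p ∈ P, ∃ g ∈ L ⊓ 𝐍 X, g * t * g⁻¹ = t * p := fun p hp =>
    J.all (J.PX.trans XN) (le_norm_self _ hN) yN (tP y yN) (fun f => by
      obtain ⟨q, hq, e⟩ := sq y _ f (tt _).symm
      exact ny q (J.PX hq) e) (tt _).symm hp
  have nP : L ⊓ 𝐍 X ≤ 𝐍 P := le_norm_iff.2 fun g hg p hp =>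
    (cs _ (conj_mem_of_norm hg.2 (J.PX hp))).elim id fun e => by
      obtain ⟨a, ha, e⟩ := all _ e
      rw [tt] at e
      have e' : g⁻¹ * a * t * (g⁻¹ * a)⁻¹ = p := by
        rw [show g⁻¹ * a * t * (g⁻¹ * a)⁻¹ = g⁻¹ * (a * t * a⁻¹) * g by group, e]; group
      exact absurd (J.om (e' ▸ hp) (I.it.conj _).sq) (H.nf _ (mul_mem (inv_mem hg.1) ha.1))
  have nV : L ⊓ 𝐍 X ≤ 𝐍 V := le_norm_iff.2 fun g hg v hv =>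
    J.om (conj_mem_of_norm (nP hg) (J.VP hv)) (conj_sq (I.sq v hv) g)
  have BN : X ⊔ L ⊓ 𝐍 X ⊓ 𝐂₁ t ≤ L ⊓ 𝐍 X := sup_le XN inf_le_left
  have mB : ∀ g ∈ L ⊓ 𝐍 X, g ∈ X ⊔ L ⊓ 𝐍 X ⊓ 𝐂₁ t ↔ t * (g * t * g⁻¹) ∈ sqs P := fun g hg => by
    constructor
    · intro m
      obtain ⟨x, hx, c, hc, rfl⟩ := (mem_sup_norm' (inf_le_left.trans inf_le_right)).1 m
      rw [show x * c * t * (x * c)⁻¹ = x * (c * t) * c⁻¹ * x⁻¹ by group, mem_cent1.1 hc.2,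
        show x * (t * c) * c⁻¹ * x⁻¹ = x * t * x⁻¹ by group]
      have f : ∀ p ∈ P, t * (p * t * p⁻¹) ∈ sqs P := fun p hp => by
        have := J.conj_sq (inv_mem hp) (one_mem P)
        rw [inv_inv, mul_one, one_mul] at this
        rw [this, tt]
        exact sq_mem_sqs (inv_mem hp)
      rcases cs x hx with e | e
      · exact f x e
      · refine mem_of_eq (conj_mem_of_norm (norm_sqs J.tnP) (f _ e)) ?_
        rw [show t * (t * (t * x * t * (t * x)⁻¹)) * t⁻¹ = t * (t * t) * (x * t * x⁻¹) * (t * t)⁻¹ by group, I.it.sq]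
        group
    · intro m
      obtain ⟨q, hq, e⟩ := sq g _ m (tt _).symm
      exact mem_of_eq (mul_mem (mem_sup_left (J.PX hq)) (mem_sup_right
        (mem_inf.2 ⟨mul_mem (inv_mem (XN (J.PX hq))) hg, cent1_of_conj e⟩))) (by group)
  have idx : (X ⊔ L ⊓ 𝐍 X ⊓ 𝐂₁ t).relIndex (L ⊓ 𝐍 X) = ♯V := by
    have h1 := ncard_of_trans_cj (P := L ⊓ 𝐍 X) (x := t) (S := {y | t⁻¹ * y ∈ P})
      (fun g hg => I.it.inv_eq.symm ▸ tP g hg) fun y hy => by simpa using all _ hy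
    have h2 := ncard_of_trans_cj (P := X ⊔ L ⊓ 𝐍 X ⊓ 𝐂₁ t) (x := t) (S := {y | t⁻¹ * y ∈ sqs P})
      (fun g hg => I.it.inv_eq.symm ▸ (mB g (BN hg)).1 hg) fun y hy => by
        obtain ⟨g, hg, e⟩ := all _ (sqs_le hy)
        rw [mul_inv_cancel_left] at e
        exact ⟨g, (mB g hg).2 (by rw [e, ← I.it.inv_eq]; exact hy), e⟩
    have h3 := relIndex_mul_relIndex (L ⊓ 𝐍 X ⊓ 𝐂₁ t) _ _ le_sup_right BN
    rw [ncard_coset] at h1 h2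
    rw [ri_inf BN, ri_inf le_rfl, ← h1, ← h2, ← card_mul_relIndex (sqs_le (P := P)), J.idx] at h3
    exact Nat.eq_of_mul_eq_mul_left (card_pos' _) h3
  have XV : X ≤ 𝐂 V := cent_symm I.VZ
  have KD : X ⊔ L ⊓ 𝐍 X ⊓ 𝐂 X ≤ L ⊓ 𝐍 X ⊓ 𝐂 V := sup_le (le_inf XN XV) (inf_le_inf_left _ (cent_anti I.VX))
  have DK : L ⊓ 𝐍 X ⊓ 𝐂 V ⊓ (X ⊔ L ⊓ 𝐍 X ⊓ 𝐂₁ t) = X ⊔ L ⊓ 𝐍 X ⊓ 𝐂 X := by
    refine le_antisymm (fun g hg => ?_) (le_inf KD (sup_le_sup_left (inf_le_inf_left _ (cent_le_cent1 I.tX)) _))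
    obtain ⟨x, hx, c, hc, rfl⟩ := (mem_sup_norm' (inf_le_left.trans inf_le_right)).1 hg.2
    exact mul_mem (mem_sup_left hx) (H.cenA I l hc ((mul_mem_cancel_left (XV hx)).1 hg.1.2))
  have no : ∀ W, W ⊴ L ⊓ 𝐍 X → X ⊔ L ⊓ 𝐍 X ⊓ 𝐂 X < W → ¬ PiNat {2} ((X ⊔ L ⊓ 𝐍 X ⊓ 𝐂 X).relIndex W) :=
    fun W n lt i => by
      obtain ⟨Y, h', H', I', l', lt⟩ := H.grow I l nV n lt i
      exact (mx Y ⟨h', H', I', l'⟩).not_gt (card_lt lt)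
  have kV : P2 V := I.k.le I.VX
  have nD := normalIn_inf_cent nV
  have eD : X ⊔ L ⊓ 𝐍 X ⊓ 𝐂 X = L ⊓ 𝐍 X ⊓ 𝐂 V := by_contra fun ne => no _ nD (KD.lt_of_ne ne) (by
    rw [← DK, inf_comm, inf_relIndex_right, ← relIndex_sup_norm (.inr (BN.trans nD.norm))]
    exact PiNat.dvd (idx ▸ kV) (relIndex_dvd_right le_sup_right (sup_le inf_le_left BN)))
  have DB : L ⊓ 𝐍 X ⊓ 𝐂 V ≤ X ⊔ L ⊓ 𝐍 X ⊓ 𝐂₁ t := (eD.symm.trans DK.symm).le.trans inf_le_right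
  have sB := H.sylB I l
  have hB : zpowers h ≤ X ⊔ L ⊓ 𝐍 X ⊓ 𝐂₁ t := zpowers_le.2 (mem_sup_right ⟨hN, I.ht⟩)
  have nC := nV.trans (norm_le_norm_cent V)
  refine (base kV I.four nV BN DB (sB.idx_of_le XV) idx (zpowers_le.1 hB) (fun g hg => ?_) I.tr
    (fun g hg m g' hg' m' => ?_)).elim (fun ⟨W, n, lt, i⟩ => ?_) fun ⟨c8, cj⟩ => ?_
  rotate_left 2
  · rw [← ri_inf n.le, ← eD] at i
    exact absurd i (no W n (eD ▸ lt))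
  · refine ⟨P, J, cs, c8, all, nP, nV, eD ▸ H.sylK I l, fun Y s => ?_, cj⟩
    have h1 := relIndex_mul_relIndex X _ _ le_sup_left BN
    have lY := s.le_of_normal ⟨XN, inf_le_right⟩ I.k
    have h2 := relIndex_mul_relIndex X _ _ lY s.le
    rw [idx, c8, ← h2] at h1
    rw [← card_mul_relIndex lY, mul_comm, Nat.dvd_antisymm (((s.pi.relIndex X).coprime sB.idx).dvd_of_dvd_mul_left
      ⟨_, h1⟩) (((piNat_pow_self p2 3).coprime s.idx).dvd_of_dvd_mul_right ⟨_, h1.symm.trans (mul_comm _ _)⟩)]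
  · obtain ⟨x, hx, c, hc, rfl⟩ := (mem_sup_norm' (inf_le_left.trans inf_le_right)).1 hg
    obtain ⟨k, hk, e⟩ := H.nrm c ⟨⟨hc.1.1, hc.2⟩, nV hc.1⟩
    exact ⟨k, hk, mem_of_eq (mul_mem (mul_mem (conj_mem_of_norm' (nC (BN (hB hk))) (XV hx)) e) (inv_mem (XV hx)))
      (by group)⟩
  · obtain ⟨k, hk, e⟩ := J.sec ⟨sqs_le, (le_norm_self P).trans norm_sqs⟩ J.PX (norm_sqs J.hP) J.hP (.inr J.tP) J.idx.le
      (tP g hg) (fun f => m ((mB g hg).2 f)) (tP g' hg') fun f => m' ((mB g' hg').2 f)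
    obtain ⟨q, hq, e⟩ := (mem_sqs J.abel).1 e
    have := J.conj_sq hq (conj_mem_of_norm (zpowers_le.2 J.hP hk) (tP g hg))
    rw [e, mul_inv_cancel_left, tt, ← I.tk hk, tt] at this
    refine ⟨k, hk, mem_of_eq (mul_mem (mem_sup_left (conj_mem_of_norm' (g := g') hg'.2 (J.PX hq))) (mem_sup_right
      (mem_inf.2 ⟨mul_mem (inv_mem hg') (mul_mem (inv_mem (XN (J.PX hq))) (mul_mem (BN (hB hk)) hg)),
        cent1_of_conj (y := g') (g := q⁻¹ * (k * g)) (this.symm.trans (by group))⟩))) ?_⟩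
    group

end LE

end CF.IC
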