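/-
An involution `t` whose centralizer has Sylow `2`-subgroup `⟨t⟩ × D` with `D` dihedral of order at least eight.
-/
import Cfsg.Agent.IC.E
set_option autoImplicit false
set_option linter.unusedSectionVars false

namespace CF.IC
open Subgroup Cfsg CF.BG CF.Sig CF.GW CF.Ab2
open CF.ZD (abel_of_sq abelem_of_sq trans_of_card_cj ncard_coset ncard_of_trans_cj relIndex_le_cj)
open scoped commutatorElement

universe u
variable {G : Type u} [Group G] [Finite G]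
variable {A B D E K L M N P Q R S T U V W X Y Z : Subgroup G} {a b c d e g h h' k p t u v w x y z : G}

theorem isConj_cj (g x : G) : IsConj x (g * x * g⁻¹) := isConj_iff.2 ⟨g, rfl⟩

theorem iv_of_conj (i : Iv t) (c : IsConj t x) : Iv x := by
  obtain ⟨g, rfl⟩ := isConj_iff.1 c
  exact i.conj g

structure Dh (D : Subgroup G) (z y w : G) : Prop where
  ym : y ∈ D
  yz : y * y = z
  iz : Iv z
  zc : D ≤ 𝐂₁ z
  wm : w ∈ D
  iw : Iv w
  ne : w ≠ z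
  p : ∀ x ∈ D, ∀ w ∈ D, Iv w → w ≠ z → x * x = 1 ∨ x * w * (x * w) = 1

theorem exists_dh (h : DC D) (c : ¬ Cyc D) (hy : y ∈ D) (i : Iv (y * y)) : ∃ w, Dh D (y * y) y w := by
  obtain ⟨σ, hσ, h1, -⟩ := h
  obtain ⟨w, hw, m⟩ := SetLike.exists_of_lt ((zpowers_le.2 hσ).lt_of_ne fun e => c (e ▸ cyc_zpowers σ))
  have ym : y ∈ zpowers σ := by_contra fun f => i.ne_one (h1 y hy f).1
  refine ⟨w, hy, rfl, i, fun x hx => ?_, hw, .mk' (fun e => m (e ▸ one_mem _)) (h1 w hw m).1,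
    fun e => m (e ▸ mul_mem ym ym), fun x hx w hw j ne => ?_⟩
  · by_cases f : x ∈ zpowers σ
    · exact mem_cent1.2 ((abel_zpowers σ).mul_comm f (mul_mem ym ym))
    · exact mem_cent1.2 (mul_inv_eq_iff_eq_mul.1 ((inv_zpowers (h1 x hx f).2 _ (mul_mem ym ym)).trans i.inv_eq))
  · by_cases f : x ∈ zpowers σ
    · exact .inr (h1 _ (mul_mem hx hw) fun e => ne (eq_of_cyc (cyc_zpowers σ) ((mul_mem_cancel_left f).1 e)
        (mul_mem ym ym) j i)).1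
    · exact .inl (h1 x hx f).1

theorem Dh.zm (H : Dh D z y w) : z ∈ D := H.yz ▸ mul_mem H.ym H.ym

theorem DC.sq (h : DC D) (a : Abel D) (c : ¬ Cyc D) (hx : x ∈ D) : x * x = 1 := by
  obtain ⟨σ, hσ, h1, -⟩ := h
  obtain ⟨w, hw, m⟩ := SetLike.exists_of_lt ((zpowers_le.2 hσ).lt_of_ne fun e => c (e ▸ cyc_zpowers σ))
  refine by_contra fun n => n ?_
  have := inv_zpowers (h1 w hw m).2 x (by_contra fun f => n (h1 x hx f).1)
  rwa [a.mul_comm hw hx, mul_inv_cancel_right, eq_inv_iff_mul_eq_one] at this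

structure IK (t : G) (K : Subgroup G) : Prop where
  it : Iv t
  nK : K ⊴ 𝐂₁ t
  tK : t ∉ K
  two : ∀ y ∈ 𝐂₁ t, E2 y → y ∈ K ∨ t * y ∈ K
  dg : DG K
  one : OneC K
  fp : ∃ a ∈ K, ∃ b ∈ K, FP a b

namespace IK
variable (H : IK t K)
include H

theorem tt (x : G) : t * (t * x) = x := by rw [← mul_assoc, H.it.sq, one_mul]

theorem sq_mul (hy : y ∈ 𝐂₁ t) : t * y * (t * y) = y * y := by
  rw [mul_assoc, ← mul_assoc y, mem_cent1.1 hy, mul_assoc, H.tt]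

theorem sq (hy : y ∈ 𝐂₁ t) (e : E2 y) : y * y ∈ K :=
  (H.two y hy e).elim (fun f => mul_mem f f) fun f => H.sq_mul hy ▸ mul_mem f f

theorem cj (g : G) : IK (g * t * g⁻¹) (cj g K) := by
  obtain ⟨a, ha, b, hb, f⟩ := H.fp
  refine ⟨H.it.conj g, cj_cent1 g t ▸ cj_normalIn_iff.2 H.nK, fun m => H.tK (conj_mem_cj.1 m), fun y hy e => ?_,
    H.dg.map _, fun a ha b hb i j => ?_, _, conj_mem_cj.2 ha, _, conj_mem_cj.2 hb, f.conj g⟩
  · rw [← cj_cent1, mem_cj] at hy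
    refine (H.two _ hy (by simpa using e.conj g⁻¹)).imp mem_cj.2 fun f => mem_cj.2 (mem_of_eq f (by group))
  · obtain ⟨k, hk, e⟩ := H.one _ (mem_cj.1 ha) _ (mem_cj.1 hb) (i.conj' g) (j.conj' g)
    exact ⟨_, conj_mem_cj.2 hk, by rw [← mul_left_inj g, ← mul_right_inj g⁻¹, ← mul_assoc g⁻¹ b, ← e]; group⟩

theorem cenV (f : FP a b) (ha : a ∈ K) (hb : b ∈ K) (hy : y ∈ K) (e : E2 y) (c : y ∈ 𝐂 (V4 a b)) : y ∈ V4 a b := by
  have c' := zpowers_le.2 c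
  have := DC.sq (H.dg (V4 a b ⊔ zpowers y) (sup_le (V4_le.2 ⟨ha, hb⟩) (zpowers_le.2 hy))
    (f.pi.sup e.zpowers (.inr (norm_of_cent c')))) (f.abel.sup (abel_zpowers y) (cent_symm c'))
    (fun h => f.not_cyc (Cyc.mono h le_sup_left)) (mem_sup_right (mem_zpowers y))
  by_cases y1 : y = 1
  · exact y1 ▸ one_mem _
  · exact H.dg.r2.mem_V4 f ha hb hy (.mk' y1 this) c

theorem cen8 (f : FP a b) (ha : a ∈ K) (hb : b ∈ K) (hy : y ∈ 𝐂₁ t) (e : E2 y) (c : y ∈ 𝐂 (V4 a b)) :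
    y ∈ V4 a b ⊔ zpowers t := by
  have ct := le_cent1_iff.1 ((V4_le.2 ⟨ha, hb⟩).trans H.nK.le)
  exact (mem_sup_iv H.it.sq (cent_le_norm _ ct)).2 ((H.two y hy e).imp (H.cenV f ha hb · e c)
    (H.cenV f ha hb · (H.it.piElt.mul e (mem_cent1.1 hy).symm) (mul_mem ct c)))

theorem not_cyc (s : Syl 2 D K) : ¬ Cyc D := fun c => by
  obtain ⟨a, ha, b, hb, f⟩ := H.fp
  obtain ⟨g, -, l⟩ := s.syl_cj_le (V4_le.2 ⟨ha, hb⟩) f.pi
  exact (f.conj g).not_cyc (Cyc.mono c (cj_V4 g a b ▸ l))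

end IK

structure IN (t : G) (K : Subgroup G) : Prop extends IK t K where
  four : ∃ y ∈ K, Iv (y * y)

theorem e2_of_sq (i : Iv (y * y)) : E2 y :=
  PiNat.dvd (piNat_pow_self p2 2) (orderOf_dvd_of_pow_eq_one (by rw [← i.sq, pow_two, pow_mul, pow_two, pow_two]))

namespace IN
variable (H : IN t K)
include H

theorem nc (hx : x ∈ K) : ¬ IsConj t x := fun c => by
  obtain ⟨y, hy, i⟩ := H.four
  obtain ⟨k, -, e⟩ := H.one _ (mul_mem hy hy) x hx i (iv_of_conj H.it c)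
  obtain ⟨g, f⟩ := isConj_iff.1 ((isConj_iff.2 ⟨k, e⟩).trans c.symm)
  have : g * y * g⁻¹ * (g * y * g⁻¹) = t := by rw [← f]; group
  exact H.tK (this ▸ H.sq (by rw [← this, mem_cent1, ← mul_assoc]) ((e2_of_sq i).conj g))

theorem cj (g : G) : IN (g * t * g⁻¹) (cj g K) := by
  obtain ⟨y, hy, i⟩ := H.four
  exact ⟨H.toIK.cj g, _, conj_mem_cj.2 hy, by simpa using i.conj g⟩

theorem dh (s : Syl 2 D K) : ∃ z y w, Dh D z y w := by
  obtain ⟨y, hy, i⟩ := H.four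
  obtain ⟨g, -, l⟩ := s.syl_cj_le (zpowers_le.2 hy) (e2_of_sq i).zpowers
  exact ⟨_, _, exists_dh (H.dg D s.le s.pi) (H.not_cyc s) (l (conj_mem_cj.2 (mem_zpowers y))) (by simpa using i.conj g)⟩

end IN

structure IF (t : G) (K : Subgroup G) : Prop extends IN t K where
  fu : ∀ x ∈ K, x * x = 1 → IsConj t (t * x)

namespace IF
variable (H : IF t K)
include H

theorem cj (g : G) : IF (g * t * g⁻¹) (cj g K) := by
  refine ⟨H.toIN.cj g, fun x hx e => ?_⟩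
  obtain ⟨x, hx', rfl⟩ := mem_cj_iff.1 hx
  refine (isConj_cj g t).symm.trans ((H.fu x hx' (by simpa using e)).trans (isConj_iff.2 ⟨g, by group⟩))

theorem memK (hx : x ∈ 𝐂₁ t) (e : x * x = 1) (n : ¬ IsConj t x) : x ∈ K :=
  (H.two x hx (piElt_of_pow_eq_one p2 (pow_two x ▸ e))).resolve_right fun f =>
    n (H.tt x ▸ H.fu _ f (H.sq_mul hx ▸ e))

theorem star (c : IsConj t u) (hx : x ∈ 𝐂₁ u) (e : x * x = 1) : IsConj t x ↔ ¬ IsConj t (u * x) := by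
  obtain ⟨g, rfl⟩ := isConj_iff.1 c
  have H' := H.cj g
  refine ⟨fun f f' => ?_, fun f => by_contra fun f' => f (c.trans (H'.fu x (H'.memK hx e fun j => f' (c.trans j)) e))⟩
  exact (H'.two x hx (piElt_of_pow_eq_one p2 (pow_two x ▸ e))).elim (H'.nc · (c.symm.trans f)) (H'.nc · (c.symm.trans f'))

theorem c8 (c : IsConj t u) (f : FP a b) (ha : a ∈ K) (hb : b ∈ K) (l : u ∈ 𝐂 (V4 a b)) (k : P2 Y)
    (m : Y ≤ 𝐂₁ u) (m' : Y ≤ 𝐂 (V4 a b)) : ♯Y ≤ 8 := by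
  obtain ⟨g, rfl⟩ := isConj_iff.1 c
  have H' := H.cj g
  have l' := le_cent1_iff.2 l
  have ha' := H'.memK (l' (left_mem_V4 a b)) f.l.sq fun j => H.nc ha (c.trans j)
  have hb' := H'.memK (l' (right_mem_V4 a b)) f.r.sq fun j => H.nc hb (c.trans j)
  refine (card_le_of_le fun y hy => H'.cen8 f ha' hb' (m hy) (k.elt hy) (m' hy)).trans ?_
  rw [card_sup_iv H'.it (cent_le_norm _ l) fun j => H'.tK (V4_le.2 ⟨ha', hb'⟩ j), f.card]

theorem core (c : IsConj t u) (c' : IsConj t (u * t * d)) (tz : t * u * t = u * (d * d)) (hd : d ∈ K)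
    (cd : d ∈ 𝐂₁ u) (hw : w ∈ K) (e : w * w = 1) (e' : d * w * (d * w) = 1) (cw : w ∈ 𝐂₁ u) : False := by
  have td := mem_cent1.1 (H.nK.le hd)
  have tw := mem_cent1.1 (H.nK.le hw)
  have f : u * t * d * (t * w) = u * (d * w) := by rw [mul_assoc u, ← td, mul_assoc, mul_assoc, H.tt]
  refine (H.star c' (x := t * w) (mem_cent1.2 ?_) (H.sq_mul (H.nK.le hw) ▸ e)).1 (H.fu w hw e)
    (f ▸ by_contra fun n => H.nc (mul_mem hd hw) ((H.star c (mul_mem cd cw) e').2 n))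
  rw [f, show t * w * (u * t * d) = t * (w * u) * t * d by group, mem_cent1.1 cw,
    show t * (u * w) * t * d = t * u * (w * t) * d by group, tw,
    show t * u * (t * w) * d = t * u * t * (w * d) by group, tz,
    show u * (d * d) * (w * d) = u * d * (d * w * (d * w)) * w⁻¹ by group, e', inv_eq_of_mul_eq_one_right e]
  group

end IF

structure XT (t : G) (K T : Subgroup G) : Prop extends IN t K where
  hT : Syl 2 T ⊤
  ex : Syl 2 (T ⊓ 𝐂₁ t) (𝐂₁ t)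

namespace XT
variable (H : XT t K T)
include H

theorem tT : t ∈ T :=
  (H.ex.mem_of_norm (self_mem_cent1 t) (cent_le_norm _ (le_cent1_iff.1 inf_le_right)) H.it.piElt).1

theorem syl : Syl 2 (T ⊓ K) K := by
  have := H.ex.inf_normal H.nK
  rwa [inf_assoc, inf_eq_right.2 H.nK.le] at this

theorem move (e : ∀ s ∈ T ⊓ 𝐂₁ t, g * s * g⁻¹ ∈ T) : XT (g * t * g⁻¹) (cj g K) T := by
  refine ⟨H.toIN.cj g, H.hT, ?_⟩
  have s := H.ex.cj g
  rw [cj_cent1] at s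
  refine s.eq_of_le (le_inf (fun x hx => ?_) s.le) inf_le_right H.hT.pi.inf_left ▸ s
  obtain ⟨x, hx', rfl⟩ := mem_cj_iff.1 hx
  exact e x hx'

theorem cases (hx : x ∈ T) (c : x ∈ 𝐂₁ t) : x ∈ K ∨ t * x ∈ K := H.two x c (H.hT.pi.elt hx)

theorem ne (h2 : ∀ H : Subgroup G, H.index ≠ 2) : ¬ T ≤ 𝐂₁ t := fun l => by
  obtain ⟨φ, i, e, -⟩ := DD.xfer H.hT h2 (M := K) (relIndex_eq_two_iff_exists_notMem_and'.2 ⟨t, H.tT, H.tK,
    fun x hx => (H.cases hx (l hx)).symm⟩) H.it H.tT H.tK H.it.piGrp (mem_zpowers t) (zpowers_le.2 (self_mem_cent1 t))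
  exact H.nc e (i.conj t)

variable (δ : Dh (T ⊓ K) z y w)
include δ

theorem cenD (hx : x ∈ T ⊓ K) (c : T ⊓ K ≤ 𝐂₁ x) : x = 1 ∨ x = z := by
  have f := FP.mk' δ.iz δ.iw (δ.zc δ.wm) δ.ne
  have ny : ¬ T ⊓ K ≤ 𝐂₁ w := fun c => δ.iz.ne_one (δ.yz ▸ f.sq (H.cenV f δ.zm.2 δ.wm.2 δ.ym.2 (H.hT.pi.elt δ.ym.1)
    (cent_V4 z w ▸ ⟨δ.zc δ.ym, c δ.ym⟩)))
  rcases f.mem.1 (H.cenV f δ.zm.2 δ.wm.2 hx.2 (H.hT.pi.elt hx.1) (cent_anti (V4_le.2 ⟨δ.zm, δ.wm⟩)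
    (le_cent1_iff.1 c))) with e | e | e | e
  · exact .inl e
  · exact .inr e
  · exact absurd (e ▸ c) ny
  · exact absurd (fun g hg => (f.cent_mul.le ⟨δ.zc hg, e ▸ c hg⟩).2) ny

theorem cen (hx : x ∈ T ⊓ 𝐂₁ t) (c : T ⊓ K ≤ 𝐂₁ x) : x = 1 ∨ x = z ∨ x = t ∨ x = t * z := by
  rcases H.cases hx.1 hx.2 with e | e
  · exact (H.cenD δ ⟨hx.1, e⟩ c).imp_right .inl
  · refine .inr (.inr ((H.cenD δ ⟨mul_mem H.tT hx.1, e⟩ fun g hg => cent1_mul_of (H.nK.le hg.2) (c hg)).imp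
      (fun f => ?_) fun f => ?_)) <;> rw [← H.tt x, f]
    exact mul_one t

theorem conj (n : g ∈ 𝐍 (T ⊓ 𝐂₁ t : Subgroup G)) : g * t * g⁻¹ = t ∨ g * t * g⁻¹ = t * z := by
  have := H.cen δ (conj_mem_of_norm n (mem_inf.2 ⟨H.tT, self_mem_cent1 t⟩)) (by
    rw [← cj_cent1, le_cj_iff]
    exact (cj_le_of_norm (inv_mem n) (inf_le_inf_left T H.nK.le)).trans inf_le_right)
  exact (this.resolve_left (H.it.conj g).ne_one).resolve_left fun e => H.nc δ.zm.2 (e ▸ isConj_cj g t)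

omit δ in
theorem fu (h2 : ∀ H : Subgroup G, H.index ≠ 2) (hx : x ∈ K) (e : x * x = 1) : IsConj t (t * x) := by
  by_cases x1 : x = 1
  · rw [x1, mul_one]
  obtain ⟨z, y, w, d⟩ := H.dh H.syl
  obtain ⟨g, hg, n, m⟩ := exists_norm_syl H.hT (inf_le_left (b := 𝐂₁ t)) fun s =>
    H.ne h2 ((s.eq_of_le inf_le_left le_top H.hT.pi).ge.trans inf_le_right)
  obtain ⟨k, hk, f⟩ := H.one z d.zm.2 x hx d.iz (.mk' x1 e)
  refine (isConj_iff.2 ⟨g, (H.conj d n).resolve_left fun e => m ⟨hg, mem_cent1.2 (mul_inv_eq_iff_eq_mul.1 e)⟩⟩).trans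
    (isConj_iff.2 ⟨k, ?_⟩)
  rw [← f, ← mul_assoc, mem_cent1.1 (H.nK.le hk)]
  group

omit δ in
theorem iF (h2 : ∀ H : Subgroup G, H.index ≠ 2) : IF t K := ⟨H.toIN, fun _ => H.fu h2⟩

omit δ in
theorem norm_two (i : (𝐂₁ t).relIndex T = 2) : T ≤ 𝐍 (T ⊓ 𝐂₁ t : Subgroup G) := le_norm_iff.2 fun g hg x hx =>
  ⟨conj_mem_of_norm (le_norm_self T hg) hx.1, (mul_two i (mul_mem hg hx.1) (inv_mem hg)).2 (by
    rw [mul_two i hg hx.1, inv_mem_iff]; exact ⟨fun f => f.2 hx.2, fun f => iff_of_true f hx.2⟩)⟩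

omit δ in
theorem conj_two (h2 : ∀ H : Subgroup G, H.index ≠ 2) (i : (𝐂₁ t).relIndex T = 2) (hz : z ∈ T) (c : T ≤ 𝐂₁ z)
    (z1 : z ≠ 1) (n : ¬ IsConj t z) (hx : x ∈ T) : x * t * x⁻¹ = t ∨ x * t * x⁻¹ = t * z := by
  obtain ⟨z', y, w, δ⟩ := H.dh H.syl
  rcases H.cen δ ⟨hz, mem_cent1_comm.1 (c H.tT)⟩ (inf_le_left.trans c) with e | e | e | e
  · exact absurd e z1
  · exact e ▸ H.conj δ (H.norm_two i hx)
  · exact absurd (e ▸ IsConj.refl _) n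
  · exact absurd (e ▸ H.fu h2 δ.zm.2 δ.iz.sq) n

omit δ in
theorem b1 (h2 : ∀ H : Subgroup G, H.index ≠ 2) (i : (𝐂₁ t).relIndex T = 2) : False := by
  obtain ⟨z, y, w, δ⟩ := H.dh H.syl
  have F := H.iF h2
  have nS := H.norm_two i
  have DS : T ⊓ K ≤ T ⊓ 𝐂₁ t := inf_le_inf_left T H.nK.le
  have nD : T ≤ 𝐍 (T ⊓ K : Subgroup G) := le_norm_iff.2 fun g hg x hx => by
    have f : ∀ x ∈ T ⊓ K, x * x = 1 → g * x * g⁻¹ ∈ T ⊓ K := fun x hx e =>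
      ⟨conj_mem_of_norm (le_norm_self T hg) hx.1, F.memK (conj_mem_of_norm (nS hg) (DS hx)).2 (conj_sq e g)
        fun c => H.nc hx.2 (c.trans (isConj_cj g x).symm)⟩
    exact (δ.p x hx w δ.wm δ.iw δ.ne).elim (f x hx) fun e => mem_of_eq
      (mul_mem (f _ (mul_mem hx δ.wm) e) (inv_mem (f w δ.wm δ.iw.sq))) (by group)
  have zT : T ≤ 𝐂₁ z := fun g hg => mem_cent1.2 (mul_inv_eq_iff_eq_mul.1
    ((H.cenD δ (conj_mem_of_norm (nD hg) δ.zm) (by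
      rw [← cj_cent1, le_cj_iff, cj_of_norm (inv_mem (nD hg))]; exact δ.zc)).resolve_left (δ.iz.conj g).ne_one))
  have der : ⁅T, T⁆ ≤ T ⊓ K := (abel_qt_iff nD).1 ((H.hT.pi.qt _).abel_of_logn (by
    rw [card_qt nD, ← relIndex_mul_relIndex _ _ T DS inf_le_left, ri_inf le_rfl, i,
      (relIndex_eq_two_iff_exists_notMem_and' (H := T ⊓ K) (K := T ⊓ 𝐂₁ t)).2 ⟨t, ⟨H.tT, self_mem_cent1 t⟩,
        fun m => H.tK m.2, fun x hx => (H.cases hx.1 hx.2).symm.imp (⟨mul_mem H.tT hx.1, ·⟩) (⟨hx.1, ·⟩)⟩]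
    exact (logn_pow p2 2).le))
  have xf : ∀ M, T ⊓ K ≤ M → t ∉ M → ∃ u ∈ T, IsConj t u ∧ t * u ∉ M ∧ u ∉ 𝐂₁ t ∧
      ∀ x ∈ T, x * u * x⁻¹ = u ∨ x * u * x⁻¹ = u * z := fun M l m => by
    obtain ⟨g, hg, e⟩ : ∃ g, (∀ s ∈ T ⊓ 𝐂₁ t, g * s * g⁻¹ ∈ T) ∧ t * (g * t * g⁻¹) ∉ M := by
      by_contra! c
      exact m (CF.Loc.extremal_transfer_ab (S := T) (T := T ⊓ 𝐂₁ t) (by simpa using H.hT.not_dvd Nat.prime_two)
        (der.trans l) H.it.sq (CF.Invol.mem_commutator_of_no_index_two h2 ⟨1, H.it⟩) H.tT H.ex.pi.isPGroup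
        ⟨H.tT, self_mem_cent1 t⟩ inf_le_right fun g hg => by
          simpa only [H.it.inv_eq, inv_inv] using c g⁻¹ fun s hs => hg (mem_map_of_mem _ hs))
    have H' := H.move hg
    have c := isConj_cj g t
    refine ⟨_, H'.tT, c, e, fun f => (H.cases H'.tT f).elim (H.nc · c) fun j => e (l ⟨mul_mem H.tT H'.tT, j⟩),
      fun x => H'.conj_two h2 ?_ δ.zm.1 zT δ.iz.ne_one fun j => H.nc δ.zm.2 (c.trans j)⟩
    have h1 := card_inf_mul_relIndex (𝐂₁ (g * t * g⁻¹)) T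
    rw [inf_comm, H'.ex.card_eq (cj_cent1 g t ▸ H.ex.cj g), card_cj, ← card_inf_mul_relIndex (𝐂₁ t) T, inf_comm, i] at h1
    exact Nat.eq_of_mul_eq_mul_left (card_pos' _) h1
  have nc : ∀ u x : G, u ∉ 𝐂₁ x → x * u * x⁻¹ ≠ u := fun u x m e => m (mem_cent1.2 (mul_inv_eq_iff_eq_mul.1 e).symm)
  obtain ⟨u, hu, c, -, m, cu⟩ := xf _ le_rfl fun m => H.tK m.2
  have iu := iv_of_conj H.it c
  have tu := (cu t H.tT).resolve_left (nc u t m)
  have tu' : t * u * t = u * z := by rwa [H.it.inv_eq] at tu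
  have tm := mul_mem H.tT hu
  have mem := fun x => CF.Invol.mem_sup_zpowers_iff (x := x) (nD tm) (mem_of_eq δ.zm (by
    rw [← mul_assoc, tu', mem_cent1.1 (zT hu), mul_assoc, iu.sq, mul_one]))
  obtain ⟨v, hv, c', m1, m', cv⟩ := xf (T ⊓ K ⊔ zpowers (t * u)) le_sup_left fun j => ((mem t).1 j).elim
    (fun j => H.tK j.2) fun j => m (mem_of_eq (conj_mem_of_norm' (le_norm_self _ (self_mem_cent1 t))
      (inv_mem (H.nK.le j.2))) (by group))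
  have iv := iv_of_conj H.it c'
  have tv := (cv t H.tT).resolve_left (nc v t m')
  have hd := (H.cases (mul_mem hu hv) ((mul_two i hu hv).2 (iff_of_false m m'))).resolve_left fun j => m1 (mem_of_eq
    (mul_mem (mem_sup_right (mem_zpowers _)) (mem_sup_left (mem_inf.2 ⟨mul_mem hu hv, j⟩)))
    (by rw [mul_assoc, ← mul_assoc u, iu.sq, one_mul]))
  obtain ⟨d, rfl⟩ : ∃ d, v = u * t * d := ⟨t⁻¹ * u⁻¹ * v, by group⟩
  rw [show t * (u * (u * t * d)) = t * (u * u) * t * d by group, iu.sq, mul_one, H.it.sq, one_mul] at hd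
  have dT : d ∈ T := (mul_mem_cancel_left (mul_mem hu H.tT)).1 hv
  have td := mem_cent1.1 (H.nK.le hd)
  rcases cu d dT with e | e
  · have e := mul_inv_eq_iff_eq_mul.1 e
    have dz : d * d = z := by
      have := iv.sq
      rw [show u * t * d * (u * t * d) = u * t * (d * u) * t * d by group, e, show u * t * (u * d) * t * d =
        u * t * u * (d * t) * d by group, td, show u * t * u * (t * d) * d = u * (t * u * t) * (d * d) by group, tu',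
        ← mul_assoc u, iu.sq, one_mul] at this
      rw [eq_inv_of_mul_eq_one_right this, δ.iz.inv_eq]
    have e' := (δ.p d ⟨dT, hd⟩ w δ.wm δ.iw δ.ne).resolve_left (dz ▸ δ.iz.ne_one)
    rcases cu w δ.wm.1 with f | f
    · exact F.core c c' (dz ▸ tu') hd (mem_cent1.2 e) δ.wm.2 δ.iw.sq e' (mem_cent1.2 (mul_inv_eq_iff_eq_mul.1 f))
    have wd := inv_of_sq (p := d) δ.iw.sq (by rw [show w * d * (w * d) = d⁻¹ * (d * w * (d * w)) * d by group, e']; group)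
    refine F.core c' (d := d⁻¹) (by rwa [mul_assoc _ d, td, show u * t * (t * d) * d⁻¹ = u * (t * t) by group, H.it.sq,
      mul_one]) (by rw [← mul_inv_rev, dz, δ.iz.inv_eq, ← tv, H.it.inv_eq]) (inv_mem hd) (inv_mem (mem_cent1.2 ?_))
      δ.wm.2 δ.iw.sq ?_ (mem_cent1.2 (mul_inv_eq_iff_eq_mul.1 ?_))
    · rw [← mul_assoc, ← mul_assoc, e, mul_assoc u, td, ← mul_assoc]
    · rw [← wd, ← δ.iw.inv_eq, inv_inv, mul_inv_cancel_right, show w⁻¹ * d * (w⁻¹ * d) = d⁻¹ * (d * w⁻¹ * (d * w⁻¹)) * d by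
        group, δ.iw.inv_eq, e', mul_one, inv_mul_cancel]
    · rw [show w * (u * t * d) * w⁻¹ = w * u * w⁻¹ * (w * t) * w⁻¹ * (w * d * w⁻¹) by group, f, wd,
        mem_cent1.1 (H.nK.le δ.wm.2), mul_assoc _ (t * w), mul_inv_cancel_right, mul_assoc u, ← mem_cent1.1 (zT H.tT), ← dz]
      group
  · have m : t * d ∈ 𝐂₁ u := mem_cent1.2 (mul_inv_eq_iff_eq_mul.1 (by
      rw [show t * d * u * (t * d)⁻¹ = t * (d * u * d⁻¹) * t⁻¹ by group, e, mul_assoc, mul_assoc,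
        ← mem_cent1.1 (zT (inv_mem H.tT)), ← mul_assoc, ← mul_assoc, tu, mul_assoc, δ.iz.sq, mul_one]))
    have sq : t * d * (t * d) = 1 := by
      have := iv.sq
      rwa [show u * t * d * (u * t * d) = u * (t * d * u) * (t * d) by group, mem_cent1.1 m, ← mul_assoc u, iu.sq,
        one_mul] at this
    exact (F.star c m sq).1 (F.fu d hd (H.sq_mul (H.nK.le hd) ▸ sq)) (mul_assoc u t d ▸ c')

end XT

end CF.IC
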